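import Mathlib
import Cfsg.Prelude.Def_Blocks
import Cfsg.Agent.H902.Shape

/-!
# Codegrees of simple groups (helper66): definitions

`Tgt X` : the shape `X` of the order of the target group is `L_n` (`n ≥ 4`), `F4`, `E6`, `E7`, `E8`.
`NDeg G d` : `d` is the degree of a nontrivial irreducible character of `G`.
`Cov K L k` : `|L| = k |K|` and `k` times a nontrivial degree of `K` is a nontrivial degree of `L`.
-/

set_option autoImplicit false

namespace Cfsg.Agent.H66.Cod

open Cfsg Cfsg.Agent.H902

/-- the shapes of the target groups -/
def Tgt (X : Art.Sh) : Prop :=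
  (∃ n, 4 ≤ n ∧ X = .L n) ∨ X = .F4 ∨ X = .E6 ∨ X = .E7 ∨ X = .E8

/-- `d` is the degree of a nontrivial irreducible character of `G` -/
def NDeg (G : Type*) [Group G] (d : ℕ) : Prop :=
  ∃ χ : IrrCharacter G, (χ : G → ℂ) ≠ 1 ∧ charDegree (χ : G → ℂ) = d

/-- `|L| = k |K|`, and `k` times a nontrivial degree of `K` is a nontrivial degree of `L` -/
structure Cov (K L : Type*) [Group K] [Group L] (k : ℕ) : Prop where
  card : Nat.card L = k * Nat.card K
  deg : ∀ d, NDeg K d → NDeg L (k * d)

/-- the orders of the sporadic groups and of the Tits group -/
def sporList : List ℕ :=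
  [7920, 95040, 443520, 10200960, 244823040, 175560, 604800, 50232960, 86775571046077562880,
    4157776806543360000, 42305421312000, 495766656000, 898128000, 44352000, 448345497600, 4030387200, 145926144000,
    460815505920, 51765179004000000, 64561751654400, 4089470473293004800, 1255205709190661721292800,
    273030912000000, 90745943887872000, 4154781481226426191177580544000000,
    808017424794512875886459904961710757005754368000000000, 17971200]

end Cfsg.Agent.H66.Cod
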