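import Cfsg.Agent.H66.Cod.Defs
import Cfsg.Agent.H495.Cod.Basic

/-!
# Codegrees of simple groups (helper66): basic facts

* `NDeg.facts` : `1 < d`, `d² < |L|`, `d ∣ |L|` for `L` simple nonabelian
* `exists_cov` : from the codegree inclusion to `Cov`
* `Cov.lt` : `k d² < |K|`
* `UniqDZ p L` : the only nontrivial degree of `L` divisible by `|L|_p` is `|L|_p`
* `Cov.dvd_card` : then `p ∣ |K|`
* `Cov.same` : if `|K|_p` is a degree of `K` then `k` is a power of `p`
-/

set_option autoImplicit false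
set_option linter.unusedSectionVars false

universe u v

namespace Cfsg.Agent.H66.Cod

open Cfsg Cfsg.Agent.H902 Cfsg.Agent.Characters.Core Cfsg.Agent.H686.CharKit
open Cfsg.Agent.H495.Cod (charDegree_one sq_lt perfect_of_simple card_ker_simple)

theorem NDeg.facts {L : Type u} [Group L] [Finite L] [IsSimpleGroup L] (hna : ¬ ∀ a b : L, a * b = b * a) {d : ℕ}
    (h : NDeg L d) : 1 < d ∧ d ^ 2 < Nat.card L ∧ d ∣ Nat.card L := by
  obtain ⟨θ, h1, rfl⟩ := h
  have h2 := sq_lt θ h1
  refine ⟨?_, by omega, H674.Codegree.charDegree_dvd_card θ.2⟩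
  by_contra hne
  have h3 : charDegree (θ : L → ℂ) = 1 := by
    have := charDegree_pos θ
    omega
  apply h1
  refine H621.SymDeg.eq_one_of_perfect (perfect_of_simple hna) θ.2 ?_
  rw [← charDegree_irr θ, h3, Nat.cast_one]

/-- nontrivial degrees exist -/
theorem exists_ndeg {K : Type u} [Group K] [Finite K] [IsSimpleGroup K] : ∃ d, NDeg K d := by
  classical
  have := finite_irr (G := K)
  have := Fintype.ofFinite (IrrCharacter K)
  by_contra hne
  let o : IrrCharacter K := ⟨1, isIrr_one⟩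
  have h1 : ∀ χ : IrrCharacter K, χ = o := by
    intro χ
    by_contra h
    exact hne ⟨_, χ, fun h2 => h (Subtype.ext h2), rfl⟩
  have h2 := sum_deg_sq (G := K)
  have h3 : (Finset.univ : Finset (IrrCharacter K)) = {o} := by
    ext χ
    simp [h1 χ]
  rw [h3, Finset.sum_singleton] at h2
  have h4 : charDegree (o : K → ℂ) = 1 := charDegree_one
  rw [h4, one_pow] at h2
  have : Nontrivial K := inferInstance
  have h5 := Finite.one_lt_card (α := K)
  omega

/-- from the codegree inclusion to `Cov` -/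
theorem exists_cov {K : Type u} {L : Type v} [Group K] [Group L] [Finite K] [Finite L] [IsSimpleGroup K]
    (h : ∀ χ : IrrCharacter K, (χ : K → ℂ) ≠ 1 → ∃ ψ : IrrCharacter L, (ψ : L → ℂ) ≠ 1 ∧
      Nat.card K * charDegree (ψ : L → ℂ) = Nat.card L * charDegree (χ : K → ℂ)) : ∃ k, Cov K L k := by
  classical
  have := finite_irr (G := K)
  have := Fintype.ofFinite (IrrCharacter K)
  have hS : 0 < Nat.card K := Nat.card_pos
  have hdvd : Nat.card K ∣ Nat.card L := by
    rw [← Nat.pow_dvd_pow_iff (n := 2) (by norm_num)]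
    let o : IrrCharacter K := ⟨1, isIrr_one⟩
    have h1 : ∀ χ ∈ Finset.univ.erase o, (Nat.card K) ^ 2 ∣ (Nat.card L) ^ 2 * charDegree (χ : K → ℂ) ^ 2 := by
      intro χ hχ
      obtain ⟨d, -, h2⟩ := h χ fun h3 => (Finset.ne_of_mem_erase hχ) (Subtype.ext h3)
      rw [← mul_pow, ← h2, mul_pow]
      exact Dvd.intro _ rfl
    have h2 := Finset.dvd_sum h1
    rw [← Finset.mul_sum] at h2
    have h3 := Finset.add_sum_erase Finset.univ (fun χ : IrrCharacter K => charDegree (χ : K → ℂ) ^ 2) (Finset.mem_univ o)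
    rw [sum_deg_sq] at h3
    have h4 : charDegree (o : K → ℂ) = 1 := charDegree_one
    rw [h4, one_pow] at h3
    have h5 : Nat.card K ^ 2 ∣ (Nat.card L) ^ 2 * (Nat.card K - 1) := by
      rw [show Nat.card K - 1 = ∑ χ ∈ Finset.univ.erase o, charDegree (χ : K → ℂ) ^ 2 by omega]
      exact h2
    refine Nat.Coprime.dvd_of_dvd_mul_right ?_ h5
    apply Nat.Coprime.pow_left
    rw [Nat.coprime_comm]
    exact (Nat.coprime_self_sub_left (by omega : 1 ≤ Nat.card K)).2 (Nat.coprime_one_left _)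
  obtain ⟨k, hk⟩ := hdvd
  refine ⟨k, by rw [hk, mul_comm], fun d hd => ?_⟩
  obtain ⟨χ, hχ, rfl⟩ := hd
  obtain ⟨ψ, hψ, h1⟩ := h χ hχ
  refine ⟨ψ, hψ, ?_⟩
  rw [hk, mul_assoc] at h1
  exact Nat.eq_of_mul_eq_mul_left hS h1

section cov

variable {K : Type u} {L : Type v} [Group K] [Group L] [Finite K] [Finite L] {k : ℕ}

theorem Cov.pos (h : Cov K L k) : 0 < k := by
  rcases Nat.eq_zero_or_pos k with h0 | h0
  · have := h.card
    rw [h0, zero_mul] at this
    exact absurd this Nat.card_pos.ne'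
  · exact h0

variable [IsSimpleGroup L]

theorem Cov.lt (h : Cov K L k) (hL : ¬ ∀ a b : L, a * b = b * a) {d : ℕ} (hd : NDeg K d) :
    k * d ^ 2 < Nat.card K := by
  have h1 := (NDeg.facts hL (h.deg d hd)).2.1
  rw [h.card] at h1
  have h2 : k * (k * d ^ 2) < k * Nat.card K := by
    calc k * (k * d ^ 2) = (k * d) ^ 2 := by ring
      _ < _ := h1
  exact Nat.lt_of_mul_lt_mul_left h2

/-- the only nontrivial degree of `L` divisible by `|L|_p` is `|L|_p` -/
def UniqDZ (p : ℕ) (L : Type*) [Group L] : Prop :=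
  ∀ d, NDeg L d → Art.P p (Nat.card L) ∣ d → d = Art.P p (Nat.card L)

/-- the characteristic divides `|K|` -/
theorem Cov.dvd_card [IsSimpleGroup K] (h : Cov K L k) (hK : ¬ ∀ a b : K, a * b = b * a) {p : ℕ}
    (hu : UniqDZ p L) : p ∣ Nat.card K := by
  classical
  by_contra hne
  have := finite_irr (G := K)
  have := Fintype.ofFinite (IrrCharacter K)
  have h1 : Art.P p (Nat.card L) = Art.P p k := by
    rw [h.card, Art.P_mul h.pos.ne' Nat.card_pos.ne', Art.P_eq_one hne, mul_one]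
  have h2 : ∀ d, NDeg K d → k * d = Art.P p (Nat.card L) := by
    intro d hd
    refine hu _ (h.deg d hd) ?_
    rw [h1]
    exact (Art.P_dvd p k).mul_right d
  obtain ⟨d₀, hd₀⟩ := exists_ndeg (K := K)
  have h3 : ∀ d, NDeg K d → d = d₀ := by
    intro d hd
    exact Nat.eq_of_mul_eq_mul_left h.pos ((h2 d hd).trans (h2 d₀ hd₀).symm)
  have h4 := NDeg.facts hK hd₀
  let o : IrrCharacter K := ⟨1, isIrr_one⟩
  have h5 := Finset.add_sum_erase Finset.univ (fun χ : IrrCharacter K => charDegree (χ : K → ℂ) ^ 2) (Finset.mem_univ o)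
  rw [sum_deg_sq] at h5
  have h6 : charDegree (o : K → ℂ) = 1 := charDegree_one
  rw [h6, one_pow] at h5
  have h7 : d₀ ∣ ∑ χ ∈ Finset.univ.erase o, charDegree (χ : K → ℂ) ^ 2 := by
    refine Finset.dvd_sum fun χ hχ => ?_
    have h8 : charDegree (χ : K → ℂ) = d₀ :=
      h3 _ ⟨χ, fun h9 => (Finset.ne_of_mem_erase hχ) (Subtype.ext h9), rfl⟩
    rw [h8]
    exact dvd_pow_self _ (by norm_num)
  have h8 : d₀ ∣ 1 := by
    have h9 : d₀ ∣ 1 + ∑ χ ∈ Finset.univ.erase o, charDegree (χ : K → ℂ) ^ 2 := by rw [h5]; exact h4.2.2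
    exact (Nat.dvd_add_left h7).1 h9
  have := Nat.dvd_one.1 h8
  omega

/-- the case of a `p`-defect zero character of `K` -/
theorem Cov.same (h : Cov K L k) {p : ℕ} (hp : p.Prime) (hu : UniqDZ p L) (hd : NDeg K (Art.P p (Nat.card K))) :
    k = Art.P p k := by
  have h1 : Art.P p (Nat.card L) = Art.P p k * Art.P p (Nat.card K) := by
    rw [h.card, Art.P_mul h.pos.ne' Nat.card_pos.ne']
  have h2 : k * Art.P p (Nat.card K) = Art.P p (Nat.card L) := by
    refine hu _ (h.deg _ hd) ?_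
    rw [h1]
    exact Nat.mul_dvd_mul_right (Art.P_dvd p k) _
  rw [h1] at h2
  exact Nat.eq_of_mul_eq_mul_right (Art.P_pos hp) h2

end cov

end Cfsg.Agent.H66.Cod
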