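import Cfsg.Agent.H66.Cod.Same

/-!
# Codegrees of simple groups (helper66): the same characteristic, II
-/

set_option autoImplicit false
set_option linter.unusedSectionVars false

namespace Cfsg.Agent.H66.Cod

open Cfsg Cfsg.Agent.H902 Cfsg.Agent.H902.Art Finset

variable {X Y : Sh} {p f g N M k : ℕ}

/-- decidable version of `Tgt` -/
def tgtB : Sh → Bool
  | .L n => Nat.ble 4 n
  | .F4 => true
  | .E6 => true
  | .E7 => true
  | .E8 => true
  | _ => false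

theorem tgtB_of {X : Sh} (h : Tgt X) : tgtB X = true := by
  rcases h with ⟨n, hn, rfl⟩ | rfl | rfl | rfl | rfl
  · show Nat.ble 4 n = true
    rw [Nat.ble_eq]
    exact hn
  all_goals rfl

/-- the finite check in characteristic two -/
theorem fin_two2 : ∀ v ∈ List.range' 1 21, ∀ a ∈ (ents 2 v).filter (fun a => tgtB a.1), ∀ w ∈ List.range' 1 21,
    ∀ b ∈ ents 2 w, w ≤ v → val 2 a = 2 ^ (v - w) * val 2 b → a = b ∨ (val 2 a = 20160 ∧ val 2 b = 20160) := by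
  decide +kernel

theorem Tgt.big (h : Tgt X) : DM X < 2 * BM X ∧ 4 ≤ DM X ∧ 3 ≤ BM X := by
  rcases h with ⟨n, hn, rfl⟩ | rfl | rfl | rfl | rfl
  · exact ⟨show n < 2 * (n - 1) by omega, hn, show 3 ≤ n - 1 by omega⟩
  all_goals decide

/-- the families: `L_n(t²)` against `C_n(t)`, `D_{n+1}(t)`, `²D_n(t)` -/
theorem ser_LC {n t : ℕ} (hn : 4 ≤ n) (ht : 2 ≤ t) (h : Eqn (.L n) (.C n) (t ^ 2) t)
    (hd : 1 ≤ dd (.L n) (t ^ 2)) : False := by
  unfold Eqn at h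
  have h1 : num (.C n) t = num (.L n) (t ^ 2) * (t ^ 2 - 1) := by
    obtain ⟨k, rfl⟩ := Nat.exists_eq_add_of_le' (show 1 ≤ n by omega)
    show ∏ i ∈ range (k + 1), (t ^ (2 * (i + 1)) - 1) = (∏ i ∈ range k, ((t ^ 2) ^ (i + 2) - 1)) * (t ^ 2 - 1)
    rw [Finset.prod_range_succ']
    congr 1
    apply Finset.prod_congr rfl
    intro i _
    rw [← pow_mul t 2 (i + 2)]
  have h0 : 0 < num (.L n) (t ^ 2) := Nat.pos_of_ne_zero (Finset.prod_ne_zero_iff.2 fun i _ =>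
    sub_one_ne (by nlinarith) (by omega))
  rw [h1] at h
  have h2 : dd (.C n) t = dd (.L n) (t ^ 2) * (t ^ 2 - 1) := by
    apply Nat.eq_of_mul_eq_mul_right h0
    rw [h]; ring
  have h3 : dd (.C n) t ≤ 2 := Nat.gcd_le_left _ (by norm_num)
  have h4 : 4 ≤ t ^ 2 := by nlinarith
  have h5 : 1 * (t ^ 2 - 1) ≤ dd (.L n) (t ^ 2) * (t ^ 2 - 1) := Nat.mul_le_mul_right _ hd
  omega

theorem ser_LD {n t : ℕ} (hn : 4 ≤ n) (ht : 2 ≤ t) (h : Eqn (.L n) (.D (n + 1)) (t ^ 2) t)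
    (hd : 1 ≤ dd (.L n) (t ^ 2)) : False := by
  unfold Eqn at h
  have h1 : num (.D (n + 1)) t = (t ^ (n + 1) - 1) * (num (.L n) (t ^ 2) * (t ^ 2 - 1)) := by
    obtain ⟨k, rfl⟩ := Nat.exists_eq_add_of_le' (show 1 ≤ n by omega)
    show (t ^ (k + 1 + 1) - 1) * ∏ i ∈ range (k + 1), (t ^ (2 * (i + 1)) - 1) =
      _ * ((∏ i ∈ range k, ((t ^ 2) ^ (i + 2) - 1)) * (t ^ 2 - 1))
    congr 1
    rw [Finset.prod_range_succ']
    congr 1
    apply Finset.prod_congr rfl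
    intro i _
    rw [← pow_mul t 2 (i + 2)]
  have h0 : 0 < num (.L n) (t ^ 2) := Nat.pos_of_ne_zero (Finset.prod_ne_zero_iff.2 fun i _ =>
    sub_one_ne (by nlinarith) (by omega))
  rw [h1] at h
  have h2 : dd (.D (n + 1)) t = dd (.L n) (t ^ 2) * ((t ^ (n + 1) - 1) * (t ^ 2 - 1)) := by
    apply Nat.eq_of_mul_eq_mul_right h0
    rw [h]; ring
  have h3 : dd (.D (n + 1)) t ≤ 4 := Nat.gcd_le_left _ (by norm_num)
  have h4 : 4 ≤ t ^ 2 := by nlinarith
  have h5 : t ^ 2 ≤ t ^ (n + 1) := Nat.pow_le_pow_right (by omega) (by omega)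
  have h6 : 1 * ((t ^ (n + 1) - 1) * (t ^ 2 - 1)) ≤ dd (.L n) (t ^ 2) * ((t ^ (n + 1) - 1) * (t ^ 2 - 1)) :=
    Nat.mul_le_mul_right _ hd
  have h7 : 3 * 3 ≤ (t ^ (n + 1) - 1) * (t ^ 2 - 1) := Nat.mul_le_mul (by omega) (by omega)
  omega

theorem ser_LDD {n t : ℕ} (hn : 4 ≤ n) (ht : 2 ≤ t) (h : Eqn (.L n) (.DD n) (t ^ 2) t)
    (hd : 1 ≤ dd (.DD n) t) : False := by
  unfold Eqn at h
  set A := ∏ i ∈ range (n - 1), (t ^ (2 * (i + 1)) - 1) with hA
  have hA0 : 0 < A := Nat.pos_of_ne_zero (Finset.prod_ne_zero_iff.2 fun i _ => sub_one_ne ht (by omega))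
  have h2 : num (.L n) (t ^ 2) * (t ^ 2 - 1) = A * (t ^ (2 * n) - 1) := by
    have h3 : ∏ i ∈ range n, (t ^ (2 * (i + 1)) - 1) = num (.L n) (t ^ 2) * (t ^ 2 - 1) := by
      obtain ⟨k, rfl⟩ := Nat.exists_eq_add_of_le' (show 1 ≤ n by omega)
      rw [Finset.prod_range_succ']
      show _ = (∏ i ∈ range k, ((t ^ 2) ^ (i + 2) - 1)) * (t ^ 2 - 1)
      congr 1
      apply Finset.prod_congr rfl
      intro i _
      rw [← pow_mul t 2 (i + 2)]
    have h4 : ∏ i ∈ range n, (t ^ (2 * (i + 1)) - 1) = A * (t ^ (2 * n) - 1) := by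
      obtain ⟨k, rfl⟩ := Nat.exists_eq_add_of_le' (show 1 ≤ n by omega)
      rw [Finset.prod_range_succ, hA]
      rfl
    rw [← h3, h4]
  have h5 : num (.DD n) t = (t ^ n + 1) * A := rfl
  have h6 := split2 (k := n) ht
  have h7 : dd (.DD n) t * (t ^ n - 1) = dd (.L n) (t ^ 2) * (t ^ 2 - 1) := by
    apply Nat.eq_of_mul_eq_mul_right (show 0 < (t ^ n + 1) * A from Nat.mul_pos (by omega) hA0)
    calc dd (.DD n) t * (t ^ n - 1) * ((t ^ n + 1) * A) = dd (.DD n) t * (A * ((t ^ n - 1) * (t ^ n + 1))) := by ring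
      _ = dd (.DD n) t * (A * (t ^ (2 * n) - 1)) := by rw [h6]
      _ = dd (.DD n) t * num (.L n) (t ^ 2) * (t ^ 2 - 1) := by rw [← h2]; ring
      _ = dd (.L n) (t ^ 2) * num (.DD n) t * (t ^ 2 - 1) := by rw [h]
      _ = dd (.L n) (t ^ 2) * (t ^ 2 - 1) * ((t ^ n + 1) * A) := by rw [h5]; ring
  have h8 : dd (.L n) (t ^ 2) ≤ n := Nat.gcd_le_left _ (by omega)
  have h9 : n ≤ 2 ^ (n - 2) := le_two_pow_sub hn
  have h10 : t ^ n = t ^ 2 * t ^ (n - 2) := by rw [← pow_add]; congr 1; omega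
  have h11 : n ≤ t ^ (n - 2) := h9.trans (Nat.pow_le_pow_left ht _)
  have h12 : 1 * (t ^ n - 1) ≤ dd (.DD n) t * (t ^ n - 1) := Nat.mul_le_mul_right _ hd
  have h13 : dd (.L n) (t ^ 2) * (t ^ 2 - 1) ≤ t ^ (n - 2) * (t ^ 2 - 1) := Nat.mul_le_mul_right _ (h8.trans h11)
  have h14 : t ^ (n - 2) * (t ^ 2 - 1) + t ^ (n - 2) = t ^ n := by
    rw [h10]
    obtain ⟨s, hs⟩ := Nat.exists_eq_add_of_le' (Nat.one_le_pow 2 t (by omega))
    rw [hs, Nat.add_sub_cancel]; ring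
  omega

/-- the sporadic pairs of shapes -/
theorem F4_L3 {t : ℕ} (ht : 2 ≤ t) (h : Eqn .F4 (.L 3) t (t ^ 4)) (hd : 1 ≤ dd (.L 3) (t ^ 4)) : False := by
  refine fin_of h hd (F4_low ht) (y := t ^ 20) ((L3_up (t := t ^ 4)).trans (by rw [← pow_mul])) ?_
  show 1 * t ^ 20 < t ^ 24
  exact pow_lt' ht (by norm_num) (by norm_num)

theorem F4_C3 {t : ℕ} (ht : 2 ≤ t) (h : Eqn .F4 (.C 3) t (t ^ 2)) (hd : 1 ≤ dd (.C 3) (t ^ 2)) : False := by
  have h1 : num (.C 3) (t ^ 2) ≤ t ^ 4 * t ^ 8 * (t ^ 12 - 1) := by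
    show ∏ i ∈ range 3, ((t ^ 2) ^ (2 * (i + 1)) - 1) ≤ _
    rw [prod_range_succ, prod_range_succ, prod_range_succ, prod_range_zero, one_mul]
    simp only [← pow_mul]
    exact Nat.mul_le_mul (Nat.mul_le_mul (up t 4) (up t 8)) le_rfl
  refine fin_of h hd (F4_low ht) h1 ?_
  show 1 * (t ^ 4 * t ^ 8 * (t ^ 12 - 1)) < t ^ 24
  have h2 : 0 < t ^ 12 := pow_pos (by omega) _
  have h3 : t ^ 24 = t ^ 4 * t ^ 8 * t ^ 12 := by ring
  rw [one_mul, h3]
  exact Nat.mul_lt_mul_of_pos_left (by omega) (by positivity)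

theorem F4_U4 {t : ℕ} (ht : 2 ≤ t) (h : Eqn .F4 (.U 4) t (t ^ 2)) (hd : 1 ≤ dd (.U 4) (t ^ 2)) : False := by
  have ht2 : 2 ≤ t ^ 2 := by nlinarith
  refine fin_of h hd (F4_low ht) (y := t ^ 20) ((U_up ht2 3).trans (by rw [← pow_mul])) ?_
  show 1 * t ^ 20 < t ^ 24
  exact pow_lt' ht (by norm_num) (by norm_num)

theorem F4_D4 {t : ℕ} (ht : 2 ≤ t) (h : Eqn .F4 (.D 4) t (t ^ 2)) : False := by
  have h1 : Eqn (.D 4) .F4 (t ^ 2) t := h.symm
  unfold Eqn at h1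
  have h2 : dd .F4 t = 1 := rfl
  rw [h2, one_mul] at h1
  have h3 : num (.D 4) (t ^ 2) =
      ((t ^ 2) ^ 4 - 1) * (((t ^ 2) ^ 2 - 1) * ((t ^ 2) ^ 4 - 1) * ((t ^ 2) ^ 6 - 1)) := by
    show ((t ^ 2) ^ 4 - 1) * ∏ i ∈ range 3, ((t ^ 2) ^ (2 * (i + 1)) - 1) = _
    rw [prod_range_succ, prod_range_succ, prod_range_succ, prod_range_zero, one_mul]
  rw [h3] at h1
  exact ar_D4F4 ht (gcd4_le _) h1

theorem F4_TE6 {t : ℕ} (ht : 2 ≤ t) (h : Eqn .F4 .TE6 (t ^ 3) (t ^ 2)) : False := by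
  unfold Eqn at h
  have h1 : dd .TE6 (t ^ 2) = 1 := by
    show Nat.gcd 3 (t ^ 2 + 1) = 1
    rcases gcd3 (t ^ 2 + 1) with h2 | h2
    · exact h2
    · exfalso
      have h3 : 3 ∣ t ^ 2 + 1 := h2 ▸ Nat.gcd_dvd_right 3 _
      have h4 : t % 3 = 0 ∨ t % 3 = 1 ∨ t % 3 = 2 := by omega
      have h5 : (t ^ 2 + 1) % 3 = 0 := Nat.mod_eq_zero_of_dvd h3
      rw [Nat.add_mod, Nat.pow_mod] at h5
      rcases h4 with h4 | h4 | h4 <;> rw [h4] at h5 <;> norm_num at h5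
  have h2 : dd .F4 (t ^ 3) = 1 := rfl
  rw [h1, h2, one_mul, one_mul] at h
  exact ar_F4TE6 ht h

theorem E6_L4 {t : ℕ} (ht : 2 ≤ t) (h : Eqn .E6 (.L 4) t (t ^ 3)) (hd : 1 ≤ dd (.L 4) (t ^ 3)) : False := by
  refine fin_of h hd (E6_low ht) (y := t ^ 27) ((L4_up (t := t ^ 3)).trans (by rw [← pow_mul])) ?_
  have h1 : dd .E6 t ≤ 3 := Nat.gcd_le_left _ (by norm_num)
  exact (Nat.mul_le_mul_right _ h1).trans_lt (pow_lt' ht (by norm_num) (by norm_num))

theorem E6_C4 {t : ℕ} (ht : 2 ≤ t) (h : Eqn .E6 (.C 4) (t ^ 2) (t ^ 3)) (hd : 1 ≤ dd (.C 4) (t ^ 3)) : False := by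
  refine fin_of h hd (E6_low2 ht) (y := t ^ 60) ((C_up (t := t ^ 3) 4).trans (by rw [← pow_mul])) ?_
  have h1 : dd .E6 (t ^ 2) ≤ 3 := Nat.gcd_le_left _ (by norm_num)
  exact (Nat.mul_le_mul_right _ h1).trans_lt (pow_lt' ht (by norm_num) (by norm_num))

theorem E6_DD4 {t : ℕ} (ht : 2 ≤ t) (h : Eqn .E6 (.DD 4) (t ^ 2) (t ^ 3)) (hd : 1 ≤ dd (.DD 4) (t ^ 3)) : False := by
  have ht3 : 2 ≤ t ^ 3 := ht.trans (Nat.le_self_pow (by norm_num) t)
  refine fin_of h hd (E6_low2 ht) (y := t ^ 51) ((DD_up ht3 3).trans (by rw [← pow_mul, ← pow_mul, ← pow_add])) ?_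
  have h1 : dd .E6 (t ^ 2) ≤ 3 := Nat.gcd_le_left _ (by norm_num)
  exact (Nat.mul_le_mul_right _ h1).trans_lt (pow_lt' ht (by norm_num) (by norm_num))

theorem E6_D5 {t : ℕ} (ht : 2 ≤ t) (h : Eqn .E6 (.D 5) (t ^ 2) (t ^ 3)) (hd : 1 ≤ dd (.D 5) (t ^ 3)) : False := by
  refine fin_of h hd (E6_low2 ht) (y := t ^ 75) ((D_up (t := t ^ 3) 4).trans (by rw [← pow_mul, ← pow_mul, ← pow_add])) ?_
  have h1 : dd .E6 (t ^ 2) ≤ 3 := Nat.gcd_le_left _ (by norm_num)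
  exact (Nat.mul_le_mul_right _ h1).trans_lt (pow_lt' ht (by norm_num) (by norm_num))

theorem E7_U9 {t : ℕ} (ht : 2 ≤ t) (h : Eqn .E7 (.U 9) t t) (hd : 1 ≤ dd (.U 9) t) : False := by
  refine fin_of h hd (E7_low ht) (y := t ^ 48) (U_up ht 8) ?_
  have h1 : dd .E7 t ≤ 2 := Nat.gcd_le_left _ (by norm_num)
  exact (Nat.mul_le_mul_right _ h1).trans_lt (pow_lt' ht (by norm_num) (by norm_num))

theorem E7_U10 {t : ℕ} (ht : 2 ≤ t) (h : Eqn .E7 (.U 10) t t) (hd : 1 ≤ dd (.U 10) t) : False := by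
  refine fin_of h hd (E7_low ht) (y := t ^ 58) (U_up ht 9) ?_
  have h1 : dd .E7 t ≤ 2 := Nat.gcd_le_left _ (by norm_num)
  exact (Nat.mul_le_mul_right _ h1).trans_lt (pow_lt' ht (by norm_num) (by norm_num))

theorem E8_L5 {t : ℕ} (ht : 2 ≤ t) (h : Eqn .E8 (.L 5) t (t ^ 6)) (hd : 1 ≤ dd (.L 5) (t ^ 6)) : False := by
  refine fin_of h hd (E8_low ht) (y := t ^ 84) ((L5_up (t := t ^ 6)).trans (by rw [← pow_mul])) ?_
  show 1 * t ^ 84 < t ^ 120
  exact pow_lt' ht (by norm_num) (by norm_num)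

theorem E8_C5 {t : ℕ} (ht : 2 ≤ t) (h : Eqn .E8 (.C 5) t (t ^ 3)) (hd : 1 ≤ dd (.C 5) (t ^ 3)) : False := by
  refine fin_of h hd (E8_low ht) (y := t ^ 90) ((C_up (t := t ^ 3) 5).trans (by rw [← pow_mul])) ?_
  show 1 * t ^ 90 < t ^ 120
  exact pow_lt' ht (by norm_num) (by norm_num)

theorem E8_DD5 {t : ℕ} (ht : 2 ≤ t) (h : Eqn .E8 (.DD 5) t (t ^ 3)) (hd : 1 ≤ dd (.DD 5) (t ^ 3)) : False := by
  have ht3 : 2 ≤ t ^ 3 := ht.trans (Nat.le_self_pow (by norm_num) t)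
  refine fin_of h hd (E8_low ht) (y := t ^ 78) ((DD_up ht3 4).trans (by rw [← pow_mul, ← pow_mul, ← pow_add])) ?_
  show 1 * t ^ 78 < t ^ 120
  exact pow_lt' ht (by norm_num) (by norm_num)

theorem E8_D6 {t : ℕ} (ht : 2 ≤ t) (h : Eqn .E8 (.D 6) t (t ^ 3)) (hd : 1 ≤ dd (.D 6) (t ^ 3)) : False := by
  refine fin_of h hd (E8_low ht) (y := t ^ 108) ((D_up (t := t ^ 3) 5).trans (by rw [← pow_mul, ← pow_mul, ← pow_add])) ?_
  show 1 * t ^ 108 < t ^ 120
  exact pow_lt' ht (by norm_num) (by norm_num)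

/-- the shapes `Y` of type A with the same ratio -/
theorem pairs_tgt (hT : Tgt X) {D d κ D' d' κ' : ℕ} (hX : TypA X D d κ) (hY : TypA Y D' d' κ')
    (hD : D * d' = D' * d) : X = Y ∨ (∃ n, 4 ≤ n ∧ X = .L n ∧ (Y = .C n ∨ Y = .D (n + 1) ∨ Y = .DD n)) ∨
      (X = .L 4 ∧ Y = .E6) ∨ (X = .L 5 ∧ Y = .E8) ∨
      (X = .F4 ∧ (Y = .L 3 ∨ Y = .C 3 ∨ Y = .U 4 ∨ Y = .D 4 ∨ Y = .TE6)) ∨
      (X = .E6 ∧ (Y = .L 4 ∨ Y = .C 4 ∨ Y = .DD 4 ∨ Y = .D 5)) ∨
      (X = .E7 ∧ (Y = .U 9 ∨ Y = .U 10)) ∨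
      (X = .E8 ∧ (Y = .L 5 ∨ Y = .C 5 ∨ Y = .DD 5 ∨ Y = .D 6)) := by
  rcases hT with ⟨n, hn, rfl⟩ | rfl | rfl | rfl | rfl <;> cases hX <;> cases hY
  all_goals first
    | exact Or.inl rfl
    | (exfalso; omega)
    | (left; congr 1; omega)
    | (right; left; refine ⟨_, hn, rfl, Or.inl ?_⟩; congr 1; omega)
    | (right; left; refine ⟨_, hn, rfl, Or.inr (Or.inl ?_)⟩; congr 1; omega)
    | (right; left; refine ⟨_, hn, rfl, Or.inr (Or.inr ?_)⟩; congr 1; omega)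
    | (right; right; simp; omega)
    | (right; right; simp; done)

/-- **The same characteristic.** -/
theorem same_num (hT : Tgt X) (hX : Real X p f N) (hY : Real Y p g M) (hk : N = k * M) (hkp : k = P p k) :
    (X = Y ∧ f = g) ∨ (N = 20160 ∧ M = 20160) := by
  have hf := hX.hf
  have hg := hY.hf
  have hNX := NN_pos hX
  have hNY := NN_pos hY
  have hle := exp_le hX hY hk hkp
  have hexp := exps hX hY hk hkp
  have hgeX := DM_ge hX
  have hgeY := DM_ge hY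
  obtain ⟨hBX, hD4, hB3⟩ := hT.big
  have hk0 : k ≠ 0 := by rintro rfl; rw [zero_mul] at hk; exact hX.M_ne hk
  -- small cases in characteristic two
  by_cases hsmall : p = 2 ∧ f * NN X ≤ 21
  · obtain ⟨rfl, hle21⟩ := hsmall
    have h1 : f * NN X ∈ List.range' 1 21 := by
      rw [List.mem_range'_1]
      have : 1 ≤ f * NN X := Nat.mul_pos hf hNX
      omega
    have h2 : g * NN Y ∈ List.range' 1 21 := by
      rw [List.mem_range'_1]
      have : 1 ≤ g * NN Y := Nat.mul_pos hg hNY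
      omega
    have h3 : val 2 (X, f) = 2 ^ (f * NN X - g * NN Y) * val 2 (Y, g) := by
      rw [val_eq hX, val_eq hY, hk]
      congr 1
      have h4 : 2 ^ (f * NN X - g * NN Y) * 2 ^ (g * NN Y) = k * 2 ^ (g * NN Y) := by
        rw [← pow_add, Nat.sub_add_cancel hle, pow_mul, pow_mul, hexp]
      exact (Nat.eq_of_mul_eq_mul_right (pow_pos (by norm_num) _) h4).symm
    rcases fin_two2 _ h1 _ (List.mem_filter.2 ⟨mem_ents hX rfl, tgtB_of hT⟩) _ h2 _ (mem_ents hY rfl) hle h3 with h4 | h4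
    · left
      exact ⟨congrArg Prod.fst h4, congrArg Prod.snd h4⟩
    · right
      rw [val_eq hX, val_eq hY] at h4
      exact h4
  left
  have hdXY : ∀ r : ℕ, r.Prime → r ≠ p → r ∣ N → r ∣ M := by
    intro r hr hrp hrN
    rw [hk] at hrN
    rcases hr.dvd_mul.1 hrN with h | h
    · exfalso
      rw [hkp, P] at h
      exact hrp ((Nat.prime_dvd_prime_iff_eq hr hX.hp).1 (hr.dvd_of_dvd_pow h))
    · exact h
  have hdYX : ∀ r : ℕ, r.Prime → r ≠ p → r ∣ M → r ∣ N := by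
    intro r hr hrp hrM
    rw [hk]
    exact hrM.mul_left _
  -- a bound for `f · NN X`
  have hbd : f * DM X ≤ 6 → f * NN X ≤ 21 := by
    intro h6
    have h1 := four_NN hX
    have h2 := kap_le hX
    have h3 : DM X ≤ 6 := by nlinarith
    have h4 : 4 * (f * NN X) = (f * DM X) * kap X := by
      calc 4 * (f * NN X) = f * (4 * NN X) := by ring
        _ = f * (DM X * kap X) := by rw [h1]
        _ = (f * DM X) * kap X := by ring
    have h5 : (f * DM X) * kap X ≤ 6 * 10 := Nat.mul_le_mul h6 (by omega)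
    omega
  have hbd' : f * BM X ≤ 6 → f * NN X ≤ 21 := by
    intro h6
    rcases hT with ⟨n, hn, rfl⟩ | rfl | rfl | rfl | rfl
    · have h1 : f * (n - 1) ≤ 6 := h6
      show f * (n * (n - 1) / 2) ≤ 21
      obtain ⟨m, rfl⟩ := Nat.exists_eq_add_of_le' hn
      have h2 : f * (m + 3) ≤ 6 := h1
      have h3 : m ≤ 3 := by nlinarith
      have h4 : f ≤ 2 := by nlinarith
      interval_cases f <;> interval_cases m <;> first | (norm_num; done) | omega
    · have h1 : f * 8 ≤ 6 := h6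
      omega
    · have h1 : f * 9 ≤ 6 := h6
      omega
    · have h1 : f * 14 ≤ 6 := h6
      omega
    · have h1 : f * 24 ≤ 6 := h6
      omega
  have hDX4 : 4 ≤ f * DM X := by nlinarith
  have hBX3 : 3 ≤ f * BM X := by nlinarith
  have h6X : ¬ (p = 2 ∧ f * DM X = 6) := fun h => hsmall ⟨h.1, hbd h.2.le⟩
  have h6B : ¬ (p = 2 ∧ f * BM X = 6) := fun h => hsmall ⟨h.1, hbd' h.2.le⟩
  have hD1 := DM_le2 hX hY hdXY (by omega) h6X
  have hD2 := DM_le2 hY hX hdYX (by omega) (fun h => hsmall ⟨h.1, hbd (hD1.trans h.2.le)⟩)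
  have hD : f * DM X = g * DM Y := le_antisymm hD1 hD2
  have hB1 := BM_le2 hX hY hdXY hBX hD hBX3 h6B
  have hBY : DM Y < 2 * BM Y := by
    have h5 : g * DM Y < g * (2 * BM Y) := by
      calc g * DM Y = f * DM X := hD.symm
        _ < f * (2 * BM X) := Nat.mul_lt_mul_of_pos_left hBX hf
        _ = 2 * (f * BM X) := by ring
        _ ≤ 2 * (g * BM Y) := Nat.mul_le_mul_left _ hB1
        _ = g * (2 * BM Y) := by ring
    exact Nat.lt_of_mul_lt_mul_left h5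
  have hB2 := BM_le2 hY hX hdYX hBY hD.symm (hBX3.trans hB1) (fun h => hsmall ⟨h.1, hbd' (hB1.trans h.2.le)⟩)
  have hBB : f * BM X = g * BM Y := le_antisymm hB1 hB2
  have hltX := BM_lt hX
  have hltY := BM_lt hY
  have hdd : f * (DM X - BM X) = g * (DM Y - BM Y) := by
    rw [Nat.mul_sub, Nat.mul_sub, hD, hBB]
  have hcr : DM X * (DM Y - BM Y) = DM Y * (DM X - BM X) := by
    have h7 : f * g * (DM X * (DM Y - BM Y)) = f * g * (DM Y * (DM X - BM X)) := by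
      calc f * g * (DM X * (DM Y - BM Y)) = (f * DM X) * (g * (DM Y - BM Y)) := by ring
        _ = (g * DM Y) * (f * (DM X - BM X)) := by rw [hD, hdd]
        _ = f * g * (DM Y * (DM X - BM X)) := by ring
    exact Nat.eq_of_mul_eq_mul_left (Nat.mul_pos hf hg) h7
  have hE : Eqn X Y (p ^ f) (p ^ g) := cross2 hX hY hk hkp
  have hdX := dd_pos hX
  have hdY := dd_pos hY
  have tp : ∀ e : ℕ, 1 ≤ e → 2 ≤ p ^ e := fun e he => hX.hp.two_le.trans (Nat.le_self_pow (by omega) p)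
  have hq : ∀ a b : ℕ, p ^ (a * b) = (p ^ b) ^ a := fun a b => by rw [mul_comm, pow_mul]
  clear hexp hle hdXY hdYX hbd hbd' hsmall h6X h6B hk hkp hB1 hB2 hD1 hD2
  rcases pairs_tgt hT (typA hX hBX) (typA hY hBY) hcr with h | ⟨n, hn, rfl, h⟩ | ⟨rfl, rfl⟩ | ⟨rfl, rfl⟩ | ⟨rfl, h⟩ |
      ⟨rfl, h⟩ | ⟨rfl, h⟩ | ⟨rfl, h⟩
  · refine ⟨h, ?_⟩
    rw [h] at hD
    exact Nat.eq_of_mul_eq_mul_right (by omega) hD
  · exfalso
    have h1 : f = 2 * g := by
      have h2 : f * n = g * (2 * n) := by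
        rcases h with rfl | rfl | rfl
        · exact hD
        · exact hD
        · exact hD
      have h3 : f * n = (2 * g) * n := by rw [h2]; ring
      exact Nat.eq_of_mul_eq_mul_right (by omega) h3
    subst h1
    rw [hq 2 g] at hE hdX
    rcases h with rfl | rfl | rfl
    · exact ser_LC hn (tp g hg) hE hdX
    · exact ser_LD hn (tp g hg) hE hdX
    · exact ser_LDD hn (tp g hg) hE hdY
  · -- `L4(t³)` against `E6(t)`
    exfalso
    have h1 : f = 3 * g := by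
      have h2 : f * 4 = g * 12 := hD
      omega
    subst h1
    rw [hq 3 g] at hE hdX
    exact E6_L4 (tp g hg) hE.symm hdX
  · exfalso
    have h1 : f = 6 * g := by
      have h2 : f * 5 = g * 30 := hD
      omega
    subst h1
    rw [hq 6 g] at hE hdX
    exact E8_L5 (tp g hg) hE.symm hdX
  · exfalso
    rcases h with rfl | rfl | rfl | rfl | rfl
    · have h1 : g = 4 * f := by
        have h2 : f * 12 = g * 3 := hD
        omega
      subst h1
      rw [hq 4 f] at hE hdY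
      exact F4_L3 (tp f hf) hE hdY
    · have h1 : g = 2 * f := by
        have h2 : f * 12 = g * 6 := hD
        omega
      subst h1
      rw [hq 2 f] at hE hdY
      exact F4_C3 (tp f hf) hE hdY
    · have h1 : g = 2 * f := by
        have h2 : f * 12 = g * 6 := hD
        omega
      subst h1
      rw [hq 2 f] at hE hdY
      exact F4_U4 (tp f hf) hE hdY
    · have h1 : g = 2 * f := by
        have h2 : f * 12 = g * 6 := hD
        omega
      subst h1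
      rw [hq 2 f] at hE
      exact F4_D4 (tp f hf) hE
    · obtain ⟨e, rfl⟩ : ∃ e, f = 3 * e := by
        have h2 : f * 12 = g * 18 := hD
        exact ⟨f / 3, by omega⟩
      have h1 : g = 2 * e := by
        have h2 : 3 * e * 12 = g * 18 := hD
        omega
      subst h1
      rw [hq 3 e, hq 2 e] at hE
      exact F4_TE6 (tp e (by omega)) hE
  · exfalso
    rcases h with rfl | rfl | rfl | rfl
    · have h1 : g = 3 * f := by
        have h2 : f * 12 = g * 4 := hD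
        omega
      subst h1
      rw [hq 3 f] at hE hdY
      exact E6_L4 (tp f hf) hE hdY
    all_goals
      obtain ⟨e, rfl⟩ : ∃ e, f = 2 * e := by
        have h2 : f * 12 = g * 8 := hD
        exact ⟨f / 2, by omega⟩
      have h1 : g = 3 * e := by
        have h2 : 2 * e * 12 = g * 8 := hD
        omega
      subst h1
      rw [hq 2 e, hq 3 e] at hE
      rw [hq 3 e] at hdY
    · exact E6_C4 (tp e (by omega)) hE hdY
    · exact E6_DD4 (tp e (by omega)) hE hdY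
    · exact E6_D5 (tp e (by omega)) hE hdY
  · exfalso
    have h1 : g = f := by
      rcases h with rfl | rfl
      · have h2 : f * 18 = g * 18 := hD
        omega
      · have h2 : f * 18 = g * 18 := hD
        omega
    subst h1
    rcases h with rfl | rfl
    · exact E7_U9 (tp g hg) hE hdY
    · exact E7_U10 (tp g hg) hE hdY
  · exfalso
    rcases h with rfl | h
    · have h1 : g = 6 * f := by
        have h2 : f * 30 = g * 5 := hD
        omega
      subst h1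
      rw [hq 6 f] at hE hdY
      exact E8_L5 (tp f hf) hE hdY
    · have h1 : g = 3 * f := by
        rcases h with rfl | rfl | rfl
        · have h2 : f * 30 = g * 10 := hD
          omega
        · have h2 : f * 30 = g * 10 := hD
          omega
        · have h2 : f * 30 = g * 10 := hD
          omega
      subst h1
      rw [hq 3 f] at hE hdY
      rcases h with rfl | rfl | rfl
      · exact E8_C5 (tp f hf) hE hdY
      · exact E8_DD5 (tp f hf) hE hdY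
      · exact E8_D6 (tp f hf) hE hdY

end Cfsg.Agent.H66.Cod
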