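import Cfsg.Agent.H66.Cod.Uniq
import Cfsg.Agent.H66.Cod.SameB
import Cfsg.Agent.H78.CodL
import Cfsg.Agent.H719.Dom4
import Cfsg.Agent.H352.Cd.Alt
import Cfsg.Agent.H352.Cd.Spor
import Cfsg.Agent.H495.Cod.Simple
import Cfsg.Agent.H364.LieNam
import Cfsg.Agent.S4198

/-!
# Codegrees of simple groups (helper66): the exceptional groups of large rank

`exc_iso` : a nonabelian simple group whose codegrees are codegrees of `F4(q)`, `E6(q)`, `E7(q)` or `E8(q)` is that group.
-/

set_option autoImplicit false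
set_option linter.unusedSectionVars false

universe u v w

namespace Cfsg.Agent.H66.Cod

open Cfsg Cfsg.Agent.H902 Cfsg.Agent.H902.Names Cfsg.Agent.Characters.Core Cfsg.Agent.H686.CharKit

/-- the shapes of the exceptional groups of large rank -/
def Ex (X : Art.Sh) : Prop := X = .F4 ∨ X = .E6 ∨ X = .E7 ∨ X = .E8

theorem Ex.tgt {X : Art.Sh} (h : Ex X) : Tgt X := Or.inr h

theorem exists_pf (F : Type w) [Field F] [Fintype F] : ∃ p f : ℕ, p.Prime ∧ 1 ≤ f ∧ Fintype.card F = p ^ f := by
  obtain ⟨p, f, hp, hf, h⟩ := (isPrimePow_nat_iff _).1 (Fintype.isPrimePow_card_of_field (α := F))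
  exact ⟨p, f, hp, hf, h.symm⟩

/-- the name of an exceptional group -/
theorem exc_name {F : Type w} [Field F] [Fintype F] {D : Lie.ChevalleyDatum}
    (hD : D ∈ [Lie.chevF4, Lie.chevE6, Lie.chevE7, Lie.chevE8]) {p f : ℕ} (hp : p.Prime) (hf : 1 ≤ f)
    (hF : Fintype.card F = p ^ f) : ∃ g X, Ex X ∧ Art.Real X p f (Nat.card ↥(D.group F)) ∧
      OrdDiv.Real g ↥(D.group F) ∧ ∀ g', IsLie g' X p f → g' = g := by
  have := Fact.mk hp
  have : Fintype (GaloisField p f) := Fintype.ofFinite _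
  have hK : Fintype.card (GaloisField p f) = p ^ f := by
    rw [← Nat.card_eq_fintype_card, GaloisField.card p f (by omega)]
  have e := Iso.chev_congr (FiniteField.ringEquivOfCardEq (hF.trans hK.symm)) D
  simp only [List.mem_cons, List.not_mem_nil, or_false] at hD
  rcases hD with rfl | rfl | rfl | rfl
  · refine ⟨.f4 (p ^ f), .F4, Or.inl rfl, ⟨hp, hf, trivial, ?_⟩,
      ⟨GaloisField p f, inferInstance, inferInstance, hK, e⟩, ?_⟩
    · rw [S1062.result hF]
      change 1 * _ = (p ^ f) ^ 24 * (_ * _ * _ * _)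
      ring
    · intro g' hg; cases hg; rfl
  · refine ⟨.e6 (p ^ f), .E6, Or.inr (Or.inl rfl), ⟨hp, hf, trivial, ?_⟩,
      ⟨GaloisField p f, inferInstance, inferInstance, hK, e⟩, ?_⟩
    · change Nat.gcd 3 (p ^ f - 1) * _ = (p ^ f) ^ 36 * (_ * _ * _ * _ * _ * _)
      rw [S1063.result hF]
      ring
    · intro g' hg; cases hg; rfl
  · refine ⟨.e7 (p ^ f), .E7, Or.inr (Or.inr (Or.inl rfl)), ⟨hp, hf, trivial, ?_⟩,
      ⟨GaloisField p f, inferInstance, inferInstance, hK, e⟩, ?_⟩
    · change Nat.gcd 2 (p ^ f - 1) * _ = (p ^ f) ^ 63 * (_ * _ * _ * _ * _ * _ * _)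
      rw [S1064.result hF]
      ring
    · intro g' hg; cases hg; rfl
  · refine ⟨.e8 (p ^ f), .E8, Or.inr (Or.inr (Or.inr rfl)), ⟨hp, hf, trivial, ?_⟩,
      ⟨GaloisField p f, inferInstance, inferInstance, hK, e⟩, ?_⟩
    · rw [S1065.result hF]
      change 1 * _ = (p ^ f) ^ 120 * (_ * _ * _ * _ * _ * _ * _ * _)
      ring
    · intro g' hg; cases hg; rfl

theorem Ex.ge {X : Art.Sh} {p f N : ℕ} (h : Ex X) (hX : Art.Real X p f N) : p ^ 24 ∣ N := by
  have h1 : 24 ≤ Art.NN X := by rcases h with rfl | rfl | rfl | rfl <;> decide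
  have h2 := Art.P_dvd p N
  rw [hX.P_self, ← pow_mul] at h2
  exact (pow_dvd_pow p (h1.trans (Nat.le_mul_of_pos_left _ hX.hf))).trans h2

theorem Ex.ne {X : Art.Sh} {p f N : ℕ} (h : Ex X) (hX : Art.Real X p f N) : N ≠ 20160 ∧ N ≠ 987033600 := by
  have h1 := h.ge hX
  have hp := hX.hp
  constructor
  · rintro rfl
    have h2 := Nat.le_of_dvd (by norm_num) h1
    have h3 : 2 ^ 24 ≤ p ^ 24 := Nat.pow_le_pow_left hp.two_le 24
    norm_num at h3
    omega
  · rintro rfl
    have h2 := Nat.le_of_dvd (by norm_num) h1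
    have h4 : p = 2 := by
      by_contra hne
      have h5 : 3 ≤ p := by
        have := hp.two_le
        omega
      have h3 : 3 ^ 24 ≤ p ^ 24 := Nat.pow_le_pow_left h5 24
      norm_num at h3
      omega
    subst h4
    revert h1
    decide

/-- `k` is smaller than the number of conjugacy classes -/
theorem Cov.lt_classes {K : Type u} {L : Type v} [Group K] [Group L] [Finite K] [Finite L] [IsSimpleGroup K] [IsSimpleGroup L]
    {k : ℕ} (h : Cov K L k) : k < Nat.card (ConjClasses K) := by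
  have h1 : ∀ χ : IrrCharacter K, χ ≠ H677.CodMultiset.one K → ∃ ψ : IrrCharacter L, ψ ≠ H677.CodMultiset.one L ∧
      charDegree (ψ : L → ℂ) = k * charDegree (χ : K → ℂ) := by
    intro χ hχ
    obtain ⟨ψ, h2, h3⟩ := h.deg _ ⟨χ, fun h4 => hχ (Subtype.ext h4), rfl⟩
    exact ⟨ψ, fun h4 => h2 (congrArg Subtype.val h4), h3⟩
  exact H78.CodK.mult_lt h.card h1

/-- **The simple groups with the codegrees of an exceptional group.** -/
theorem exc_iso {F : Type w} [Field F] [Fintype F] {D : Lie.ChevalleyDatum}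
    (hD : D ∈ [Lie.chevF4, Lie.chevE6, Lie.chevE7, Lie.chevE8]) {S : Type u} [Group S] [Finite S] [IsSimpleGroup S]
    (hS : ¬ ∀ a b : S, a * b = b * a) (hK : IsKnownSimple' S) {k : ℕ} (h : Cov S ↥(D.group F) k)
    [IsSimpleGroup ↥(D.group F)] (hL : ¬ ∀ a b : ↥(D.group F), a * b = b * a) :
    Nonempty (S ≃* ↥(D.group F)) := by
  obtain ⟨p, f, hp, hf, hF⟩ := exists_pf F
  obtain ⟨g, X, hX, hR, hg, huniq⟩ := exc_name hD hp hf hF
  have := Fact.mk hp
  have hchar : CharP F p := H78.CodG.charP_of_card hp hF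
  have hD' : D ∈ [Lie.chevG2, Lie.chevB2, Lie.chevD4, Lie.chevF4, Lie.chevE6, Lie.chevE7, Lie.chevE8] := by
    simp only [List.mem_cons, List.not_mem_nil, or_false] at hD ⊢
    tauto
  have hu : UniqDZ p ↥(D.group F) := uniqDZ_chev hD' p
  have hpS : p ∣ Nat.card S := h.dvd_card hS hu
  have hk0 := h.pos
  have hspor : (Lie.IsoTits S ∨ IsSporadicGroup S) → False := by
    intro h1
    have h2 := H495.Cod.spor_card h1
    obtain ⟨d, hd⟩ := exists_ndeg (K := S)
    have h3 := h.lt hL hd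
    have h4 := (NDeg.facts hS hd).1
    have h5 : k * 2 ^ 2 ≤ k * d ^ 2 := Nat.mul_le_mul_left _ (Nat.pow_le_pow_left h4 2)
    have h6 := H352.Cd.spor_numeric hX.tgt hR h2 hpS h.card (by omega)
    exact (hX.ne hR).2 h6.2
  rcases PreUniq.known_cases hK with h1 | h1 | ⟨r, hr, h1⟩ | h1 | h1
  · exfalso
    have : Fact (Nat.card S).Prime := ⟨h1⟩
    have : IsCyclic S := isCyclic_of_prime_card (p := Nat.card S) rfl
    exact hS fun a b => (IsCyclic.isMulCommutative (α := S)).is_comm.comm a b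
  · -- alternating
    exfalso
    obtain ⟨m, hm, ⟨e⟩⟩ := h1
    have hc : 2 * Nat.card S = m.factorial := by
      rw [Nat.card_congr e.toEquiv]
      exact H495.Cod.two_mul_aN (by omega)
    have hpm : p ≤ m := (hp.dvd_factorial).1 (hpS.trans ⟨2, by rw [← hc, mul_comm]⟩)
    have h2 := h.lt_classes
    have h3 : Nat.card (ConjClasses S) = Nat.card (ConjClasses (alternatingGroup (Fin m))) := by
      have hf1 : Function.Surjective (ConjClasses.map e.toMonoidHom) := ConjClasses.map_surjective e.surjective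
      have hf2 : Function.Surjective (ConjClasses.map e.symm.toMonoidHom) :=
        ConjClasses.map_surjective e.symm.surjective
      exact le_antisymm (Nat.card_le_card_of_surjective _ hf2) (Nat.card_le_card_of_surjective _ hf1)
    obtain ⟨h4, h5⟩ := S4198.result m hm
    have hk1 : k < 2 ^ m := lt_of_lt_of_le (show k < 2 ^ (m - 2) by omega) (Nat.pow_le_pow_right (by norm_num) (by omega))
    have hd : NDeg S (m - 1) := by
      obtain ⟨ψ, hψ, hψ1⟩ := H621.SymDeg.alt_irr hm e
      have hdeg : charDegree ψ = m - 1 := by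
        rw [charDegree, hψ1, Complex.natCast_re, Nat.floor_natCast]
      refine ⟨⟨ψ, hψ⟩, ?_, hdeg⟩
      rintro (rfl : ψ = 1)
      rw [H495.Cod.charDegree_one] at hdeg
      omega
    have h6 := h.lt hL hd
    have h7 : 2 * Nat.card ↥(D.group F) = k * m.factorial := by rw [h.card, ← hc]; ring
    have h8 : k * (2 * (m - 1) ^ 2) < m.factorial := by
      rw [← hc]
      calc k * (2 * (m - 1) ^ 2) = 2 * (k * (m - 1) ^ 2) := by ring
        _ < _ := by omega
    have h9 := H352.Cd.alt_numeric hX.tgt hR hm hpm h7 h8 hk1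
    have h10 := hX.ne hR
    omega
  · -- Lie type
    obtain ⟨g', Y, f', hg', hR', hY⟩ := H364.LieNam.lie_nam OrdDiv.table hr h1
    have hrS : r ∣ Nat.card S := by
      have h2 := Art.P_dvd r (Nat.card S)
      rw [hY.P_self, ← pow_mul] at h2
      exact (dvd_pow_self r (Nat.mul_pos hY.hf (Art.NN_pos hY)).ne').trans h2
    have hst := ndeg_steinberg hr h1 hrS
    have h3 := h.lt hL hst
    by_cases hrp : r = p
    · subst hrp
      rcases same_num hX.tgt hR hY h.card (h.same hr hu hst) with ⟨rfl, rfl⟩ | ⟨h2, -⟩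
      · rw [huniq g' hg'] at hR'
        exact Iso.real_unique _ hR' hg
      · exact absurd h2 (hX.ne hR).1
    · exfalso
      have h4 := H719.Dom4.dom4 hX hR hr hrp
      have h5 := hY.lt_cube
      have h6 : Art.P r (Nat.card S) ≤ Art.P r (Nat.card ↥(D.group F)) :=
        Art.P_mono hr Nat.card_pos.ne' (by rw [h.card]; exact dvd_mul_left _ _)
      set P := Art.P r (Nat.card S)
      have hP0 : 0 < P := Art.P_pos hr
      have h7 : k < P := by
        have h8 : k * P ^ 2 < P * P ^ 2 := by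
          calc k * P ^ 2 < Nat.card S := h3
            _ < P ^ 3 := h5
            _ = P * P ^ 2 := by ring
        exact Nat.lt_of_mul_lt_mul_right h8
      have h8 : Nat.card ↥(D.group F) < P ^ 4 := by
        rw [h.card]
        calc k * Nat.card S ≤ P * Nat.card S := Nat.mul_le_mul_right _ h7.le
          _ < P * P ^ 3 := Nat.mul_lt_mul_of_pos_left h5 hP0
          _ = P ^ 4 := by ring
      have h9 : P ^ 4 ≤ Art.P r (Nat.card ↥(D.group F)) ^ 4 := Nat.pow_le_pow_left h6 4
      omega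
  · exact (hspor (Or.inl h1)).elim
  · exact (hspor (Or.inr h1)).elim

end Cfsg.Agent.H66.Cod
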