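import Cfsg.Agent.H66.Cod.Asm
import Cfsg.Agent.H850.Cod.NoncOK
import Cfsg.Agent.H417.CodCentral
import Cfsg.Agent.H380.Cod.ESeven

/-!
# S3539: the last step (helper66)
-/

set_option autoImplicit false
set_option linter.unusedSectionVars false

universe u v w

namespace Cfsg.Agent.H66.Cod

open Cfsg Cfsg.Agent.Characters.Core Cfsg.Agent.H686.CharKit
open Cfsg.Agent.H850.Cod (CentralOK NoncentralOK CodOK card_ker_simple)

/-- the central case for the four types -/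
theorem centralOK {F : Type v} [Field F] [Fintype F] {D : Lie.ChevalleyDatum}
    (hD : D ∈ [Lie.chevF4, Lie.chevE6, Lie.chevE7, Lie.chevE8]) : CentralOK.{u} ↥(D.group F) := by
  simp only [List.mem_cons, List.not_mem_nil, or_false] at hD
  rcases hD with rfl | rfl | rfl | rfl
  · exact H417.CodCentral.central_F4 F
  · exact H417.CodCentral.central_E6 F
  · exact H380.Cod.ESeven.central_E7 F
  · exact H417.CodCentral.central_E8 F

/-- a group with the codegrees of a simple nonabelian group is not trivial -/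
theorem nontriv {L : Type v} [Group L] [Finite L] [IsSimpleGroup L] {G : Type u} [Group G] [Finite G]
    (hL : ¬ ∀ a b : L, a * b = b * a)
    (h : {c : ℕ | ∃ χ : IrrCharacter L, (c : ℂ) * (χ : L → ℂ) 1 *
        (Nat.card {g : L // (χ : L → ℂ) g = (χ : L → ℂ) 1} : ℂ) = (Nat.card L : ℂ)} ⊆
      {c : ℕ | ∃ χ : IrrCharacter G, (c : ℂ) * (χ : G → ℂ) 1 *
        (Nat.card {g : G // (χ : G → ℂ) g = (χ : G → ℂ) 1} : ℂ) = (Nat.card G : ℂ)}) : Nontrivial G := by
  by_contra hn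
  have hs : Subsingleton G := not_nontrivial_iff_subsingleton.1 hn
  obtain ⟨d, hd⟩ := exists_ndeg (K := L)
  obtain ⟨h1, h2, c, hc⟩ := hd.facts hL
  obtain ⟨θ, hθ, hθd⟩ := hd
  have hmem : c ∈ {c : ℕ | ∃ χ : IrrCharacter L, (c : ℂ) * (χ : L → ℂ) 1 *
      (Nat.card {g : L // (χ : L → ℂ) g = (χ : L → ℂ) 1} : ℂ) = (Nat.card L : ℂ)} := by
    refine ⟨θ, ?_⟩
    rw [card_ker_simple θ hθ, ← charDegree_irr θ, hθd, hc]
    push_cast
    ring
  obtain ⟨χ, hχ⟩ := h hmem
  have hG : Nat.card G = 1 := Nat.card_of_subsingleton (1 : G)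
  have e1 := charDegree_irr χ
  generalize Nat.card {g : G // (χ : G → ℂ) g = (χ : G → ℂ) 1} = k at hχ
  rw [hG, ← e1] at hχ
  have h3 : c * charDegree (χ : G → ℂ) * k = 1 := by exact_mod_cast hχ
  have h4 : c = 1 := Nat.eq_one_of_mul_eq_one_right (Nat.eq_one_of_mul_eq_one_right h3)
  rw [h4, mul_one] at hc
  rw [hc] at h2
  nlinarith

/-- **S3539 from the classification.** -/
theorem fin {F : Type w} [Field F] [Fintype F] {D : Lie.ChevalleyDatum}
    (hD : D ∈ [Lie.chevF4, Lie.chevE6, Lie.chevE7, Lie.chevE8])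
    (hcl : ∀ (K : Type u) [Group K] [Finite K] [IsSimpleGroup K], IsKnownSimple' K)
    {G : Type u} [Group G] [Finite G]
    (h : {c : ℕ | ∃ χ : IrrCharacter G, (c : ℂ) * (χ : G → ℂ) 1 * (Nat.card {g : G // (χ : G → ℂ) g = (χ : G → ℂ) 1} : ℂ) = (Nat.card G : ℂ)} =
      {c : ℕ | ∃ χ : IrrCharacter ↥(D.group F), (c : ℂ) * (χ : ↥(D.group F) → ℂ) 1 * (Nat.card {g : ↥(D.group F) // (χ : ↥(D.group F) → ℂ) g = (χ : ↥(D.group F) → ℂ) 1} : ℂ) = (Nat.card ↥(D.group F) : ℂ)}) :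
    Nonempty (G ≃* ↥(D.group F)) := by
  obtain ⟨hs, hc⟩ := S1054.result (F := F) D (List.mem_cons_of_mem _ hD)
  have hL : ¬ ∀ a b : ↥(D.group F), a * b = b * a := fun h1 => hc ⟨⟨h1⟩⟩
  have hnt : Nontrivial G := nontriv hL h.superset
  exact asm hD hcl (centralOK hD) (H850.Cod.noncentralOK hD) (CodOK.of_subset h.subset)

end Cfsg.Agent.H66.Cod
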