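import Cfsg.Agent.H66.Cod.Defs
import Cfsg.Agent.H902.SameD

/-!
# Codegrees of simple groups (helper66): the same characteristic

`same_num` : if the orders of two groups of Lie type in characteristic `p` have the same part prime to `p`, the first
being of type `L_n` (`n ≥ 4`), `F4`, `E6`, `E7`, `E8`, then they have the same shape and field, or are
`L₄(2)`, `L₃(4)`.
-/

set_option autoImplicit false
set_option linter.unusedSectionVars false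

namespace Cfsg.Agent.H66.Cod

open Cfsg Cfsg.Agent.H902 Cfsg.Agent.H902.Art Finset

variable {X Y : Sh} {p f g N M k : ℕ}

theorem exps (hX : Real X p f N) (hY : Real Y p g M) (hk : N = k * M) (hkp : k = P p k) :
    (p ^ f) ^ NN X = k * (p ^ g) ^ NN Y := by
  have hk0 : k ≠ 0 := by rintro rfl; rw [zero_mul] at hk; exact hX.M_ne hk
  rw [← hX.P_self, ← hY.P_self, hk, P_mul hk0 hY.M_ne, ← hkp]

theorem cross2 (hX : Real X p f N) (hY : Real Y p g M) (hk : N = k * M) (hkp : k = P p k) :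
    dd Y (p ^ g) * num X (p ^ f) = dd X (p ^ f) * num Y (p ^ g) := by
  have hk0 : k ≠ 0 := by rintro rfl; rw [zero_mul] at hk; exact hX.M_ne hk
  have h1 := exps hX hY hk hkp
  have h2 := hX.eq
  have h3 := hY.eq
  rw [h1, hk] at h2
  have h4 : dd X (p ^ f) * M = (p ^ g) ^ NN Y * num X (p ^ f) := by
    apply Nat.eq_of_mul_eq_mul_left (Nat.pos_of_ne_zero hk0)
    calc k * (dd X (p ^ f) * M) = dd X (p ^ f) * (k * M) := by ring
      _ = _ := h2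
      _ = _ := by ring
  have hq : 0 < (p ^ g) ^ NN Y := pow_pos (by have := hY.q_ge; omega) _
  apply Nat.eq_of_mul_eq_mul_left hq
  calc (p ^ g) ^ NN Y * (dd Y (p ^ g) * num X (p ^ f)) = dd Y (p ^ g) * ((p ^ g) ^ NN Y * num X (p ^ f)) := by ring
    _ = dd Y (p ^ g) * (dd X (p ^ f) * M) := by rw [h4]
    _ = dd X (p ^ f) * (dd Y (p ^ g) * M) := by ring
    _ = dd X (p ^ f) * ((p ^ g) ^ NN Y * num Y (p ^ g)) := by rw [h3]
    _ = _ := by ring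

theorem exp_le (hX : Real X p f N) (hY : Real Y p g M) (hk : N = k * M) (hkp : k = P p k) :
    g * NN Y ≤ f * NN X := by
  have hk0 : k ≠ 0 := by rintro rfl; rw [zero_mul] at hk; exact hX.M_ne hk
  have h1 := exps hX hY hk hkp
  rw [← pow_mul, ← pow_mul] at h1
  have h2 : p ^ (g * NN Y) ≤ p ^ (f * NN X) := by
    rw [h1]
    exact Nat.le_mul_of_pos_left _ (Nat.pos_of_ne_zero hk0)
  exact (Nat.pow_le_pow_iff_right hX.hp.one_lt).1 h2

/-- `DM_le` with two orders -/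
theorem DM_le2 (hX : Real X p f N) (hY : Real Y p g M) (hd : ∀ r : ℕ, r.Prime → r ≠ p → r ∣ N → r ∣ M)
    (h3 : 3 ≤ f * DM X) (h6 : ¬ (p = 2 ∧ f * DM X = 6)) : f * DM X ≤ g * DM Y := by
  obtain ⟨r, hr, ho⟩ := Lib.Zsigmondy.exists_prime_orderOf hX.hp.two_le (show 2 ≤ f * DM X by omega) (fun h => by omega) h6
  have hrp : r ≠ p := ne_of_order hr (show 1 ≤ f * DM X by omega) ho
  have hd := hd r hr hrp (hX.dvd_of_order_DM hr ho h3)
  have hg := hY.hf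
  have hge := DM_ge hY
  have hlt := BM_lt hY
  rcases hY.order_cases hr hrp hd with h | ⟨e, he, heB, h⟩
  · rw [ho] at h
    exact Nat.le_of_dvd (Nat.mul_pos hg (by omega)) h
  · rw [ho] at h
    exact (Nat.le_of_dvd (Nat.mul_pos hg he) h).trans (Nat.mul_le_mul_left _ (by omega))

/-- `BM_le` with two orders -/
theorem BM_le2 (hX : Real X p f N) (hY : Real Y p g M) (hd : ∀ r : ℕ, r.Prime → r ≠ p → r ∣ N → r ∣ M)
    (hB : DM X < 2 * BM X) (hDD : f * DM X = g * DM Y)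
    (h3 : 3 ≤ f * BM X) (h6 : ¬ (p = 2 ∧ f * BM X = 6)) : f * BM X ≤ g * BM Y := by
  obtain ⟨r, hr, ho⟩ := Lib.Zsigmondy.exists_prime_orderOf hX.hp.two_le (show 2 ≤ f * BM X by omega) (fun h => by omega) h6
  have hrp : r ≠ p := ne_of_order hr (show 1 ≤ f * BM X by omega) ho
  have hd := hd r hr hrp (hX.dvd_of_order_BM hr hB ho h3)
  have hf := hX.hf
  have hg := hY.hf
  have hlt := BM_lt hX
  rcases hY.order_cases hr hrp hd with h | ⟨e, he, heB, h⟩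
  · exfalso
    rw [ho, ← hDD] at h
    obtain ⟨c, hc⟩ := Nat.dvd_of_mul_dvd_mul_left hf h
    have hc2 : c < 2 := by
      by_contra hcon
      have : BM X * 2 ≤ BM X * c := Nat.mul_le_mul_left _ (by omega)
      omega
    have hc0 : c ≠ 0 := by rintro rfl; omega
    have hc1 : c = 1 := by omega
    rw [hc1] at hc
    omega
  · rw [ho] at h
    exact (Nat.le_of_dvd (Nat.mul_pos hg he) h).trans (Nat.mul_le_mul_left _ heB)

/-! ### arithmetic -/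

/-- the equation of the two orders without the `p`-parts -/
def Eqn (X Y : Sh) (q q' : ℕ) : Prop := dd Y q' * num X q = dd X q * num Y q'

theorem Eqn.symm {q q' : ℕ} (h : Eqn X Y q q') : Eqn Y X q' q := by
  unfold Eqn at h ⊢
  exact h.symm

section arith

variable {t : ℕ}

theorem lo {t : ℕ} (ht : 2 ≤ t) (k : ℕ) : t ^ k ≤ t ^ (k + 1) - 1 := by
  have h1 : t ^ (k + 1) = t ^ k * t := pow_succ t k
  have h2 : 1 ≤ t ^ k := Nat.one_le_pow _ _ (by omega)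
  have h3 : t ^ k * 2 ≤ t ^ k * t := Nat.mul_le_mul_left _ ht
  omega

theorem hi {t : ℕ} (k : ℕ) : t ^ k - 1 ≤ t ^ k := Nat.sub_le _ _

theorem hp1 {t : ℕ} (ht : 2 ≤ t) (k : ℕ) : t ^ k + 1 ≤ t ^ (k + 1) := by
  have h1 : t ^ (k + 1) = t ^ k * t := pow_succ t k
  have h2 : 1 ≤ t ^ k := Nat.one_le_pow _ _ (by omega)
  have h3 : t ^ k * 2 ≤ t ^ k * t := Nat.mul_le_mul_left _ ht
  omega

theorem pos_sub {t k : ℕ} (ht : 2 ≤ t) (hk : k ≠ 0) : 0 < t ^ k - 1 := Nat.pos_of_ne_zero (sub_one_ne ht hk)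

theorem split2 {t k : ℕ} (ht : 2 ≤ t) : t ^ (2 * k) - 1 = (t ^ k - 1) * (t ^ k + 1) := by
  rw [two_mul, pow_add]
  obtain ⟨s, hs⟩ := Nat.exists_eq_add_of_le' (Nat.one_le_pow k t (by omega))
  rw [hs, Nat.add_sub_cancel]
  have : (s + 1) * (s + 1) = s * (s + 1 + 1) + 1 := by ring
  rw [this, Nat.add_sub_cancel]

theorem up (t k : ℕ) : t ^ k - 1 ≤ t ^ k := Nat.sub_le _ _

theorem up1 (ht : 2 ≤ t) (k : ℕ) : t ^ k + 1 ≤ t ^ (k + 1) := hp1 ht k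

/-! lower bounds -/

theorem F4_low (ht : 2 ≤ t) : t ^ 24 ≤ num .F4 t := by
  show _ ≤ (t ^ 2 - 1) * (t ^ 6 - 1) * (t ^ 8 - 1) * (t ^ 12 - 1)
  calc t ^ 24 = t ^ 1 * t ^ 5 * t ^ 7 * t ^ 11 := by ring
    _ ≤ _ := Nat.mul_le_mul (Nat.mul_le_mul (Nat.mul_le_mul (lo ht 1) (lo ht 5)) (lo ht 7)) (lo ht 11)

theorem E6_low (ht : 2 ≤ t) : t ^ 36 ≤ num .E6 t := by
  show _ ≤ (t ^ 2 - 1) * (t ^ 5 - 1) * (t ^ 6 - 1) * (t ^ 8 - 1) * (t ^ 9 - 1) * (t ^ 12 - 1)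
  calc t ^ 36 = t ^ 1 * t ^ 4 * t ^ 5 * t ^ 7 * t ^ 8 * t ^ 11 := by ring
    _ ≤ _ := Nat.mul_le_mul (Nat.mul_le_mul (Nat.mul_le_mul (Nat.mul_le_mul (Nat.mul_le_mul (lo ht 1) (lo ht 4))
      (lo ht 5)) (lo ht 7)) (lo ht 8)) (lo ht 11)

theorem E6_low2 (ht : 2 ≤ t) : t ^ 78 ≤ num .E6 (t ^ 2) := by
  show _ ≤ ((t ^ 2) ^ 2 - 1) * ((t ^ 2) ^ 5 - 1) * ((t ^ 2) ^ 6 - 1) * ((t ^ 2) ^ 8 - 1) * ((t ^ 2) ^ 9 - 1) *
    ((t ^ 2) ^ 12 - 1)
  simp only [← pow_mul]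
  calc t ^ 78 = t ^ 3 * t ^ 9 * t ^ 11 * t ^ 15 * t ^ 17 * t ^ 23 := by ring
    _ ≤ _ := Nat.mul_le_mul (Nat.mul_le_mul (Nat.mul_le_mul (Nat.mul_le_mul (Nat.mul_le_mul (lo ht 3) (lo ht 9))
      (lo ht 11)) (lo ht 15)) (lo ht 17)) (lo ht 23)

theorem E7_low (ht : 2 ≤ t) : t ^ 63 ≤ num .E7 t := by
  show _ ≤ (t ^ 2 - 1) * (t ^ 6 - 1) * (t ^ 8 - 1) * (t ^ 10 - 1) * (t ^ 12 - 1) * (t ^ 14 - 1) * (t ^ 18 - 1)
  calc t ^ 63 = t ^ 1 * t ^ 5 * t ^ 7 * t ^ 9 * t ^ 11 * t ^ 13 * t ^ 17 := by ring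
    _ ≤ _ := Nat.mul_le_mul (Nat.mul_le_mul (Nat.mul_le_mul (Nat.mul_le_mul (Nat.mul_le_mul (Nat.mul_le_mul
      (lo ht 1) (lo ht 5)) (lo ht 7)) (lo ht 9)) (lo ht 11)) (lo ht 13)) (lo ht 17)

theorem E8_low (ht : 2 ≤ t) : t ^ 120 ≤ num .E8 t := by
  show _ ≤ (t ^ 2 - 1) * (t ^ 8 - 1) * (t ^ 12 - 1) * (t ^ 14 - 1) * (t ^ 18 - 1) * (t ^ 20 - 1) * (t ^ 24 - 1) *
      (t ^ 30 - 1)
  calc t ^ 120 = t ^ 1 * t ^ 7 * t ^ 11 * t ^ 13 * t ^ 17 * t ^ 19 * t ^ 23 * t ^ 29 := by ring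
    _ ≤ _ := Nat.mul_le_mul (Nat.mul_le_mul (Nat.mul_le_mul (Nat.mul_le_mul (Nat.mul_le_mul (Nat.mul_le_mul
      (Nat.mul_le_mul (lo ht 1) (lo ht 7)) (lo ht 11)) (lo ht 13)) (lo ht 17)) (lo ht 19)) (lo ht 23)) (lo ht 29)

/-! upper bounds -/

theorem L3_up : num (.L 3) t ≤ t ^ 5 := by
  show ∏ i ∈ range 2, (t ^ (i + 2) - 1) ≤ _
  rw [prod_range_succ, prod_range_succ, prod_range_zero, one_mul]
  calc _ ≤ t ^ 2 * t ^ 3 := Nat.mul_le_mul (up t 2) (up t 3)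
    _ = _ := by ring

theorem L4_up : num (.L 4) t ≤ t ^ 9 := by
  show ∏ i ∈ range 3, (t ^ (i + 2) - 1) ≤ _
  rw [prod_range_succ, prod_range_succ, prod_range_succ, prod_range_zero, one_mul]
  calc _ ≤ t ^ 2 * t ^ 3 * t ^ 4 := Nat.mul_le_mul (Nat.mul_le_mul (up t 2) (up t 3)) (up t 4)
    _ = _ := by ring

theorem L5_up : num (.L 5) t ≤ t ^ 14 := by
  show ∏ i ∈ range 4, (t ^ (i + 2) - 1) ≤ _
  rw [prod_range_succ, prod_range_succ, prod_range_succ, prod_range_succ, prod_range_zero, one_mul]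
  calc _ ≤ t ^ 2 * t ^ 3 * t ^ 4 * t ^ 5 :=
        Nat.mul_le_mul (Nat.mul_le_mul (Nat.mul_le_mul (up t 2) (up t 3)) (up t 4)) (up t 5)
    _ = _ := by ring

theorem Cprod_up (m : ℕ) : ∏ i ∈ range m, (t ^ (2 * (i + 1)) - 1) ≤ t ^ (m * (m + 1)) := by
  induction m with
  | zero => simp
  | succ m ih =>
    rw [prod_range_succ]
    calc _ ≤ t ^ (m * (m + 1)) * t ^ (2 * (m + 1)) := Nat.mul_le_mul ih (up t _)
      _ = _ := by rw [← pow_add]; congr 1; ring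

theorem C_up (m : ℕ) : num (.C m) t ≤ t ^ (m * (m + 1)) := Cprod_up m

theorem D_up (m : ℕ) : num (.D (m + 1)) t ≤ t ^ (m + 1) * t ^ (m * (m + 1)) :=
  Nat.mul_le_mul (up t _) (Cprod_up m)

theorem DD_up (ht : 2 ≤ t) (m : ℕ) : num (.DD (m + 1)) t ≤ t ^ (m + 2) * t ^ (m * (m + 1)) :=
  Nat.mul_le_mul (hp1 ht _) (Cprod_up m)

theorem U_up (ht : 2 ≤ t) (n : ℕ) : ∏ i ∈ range n, (if Even i then t ^ (i + 2) - 1 else t ^ (i + 2) + 1) ≤
    t ^ (n * (n + 3) / 2 + n / 2) := by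
  induction n with
  | zero => simp
  | succ n ih =>
    rw [prod_range_succ]
    have h1 : (if Even n then t ^ (n + 2) - 1 else t ^ (n + 2) + 1) ≤ t ^ (n + 2 + n % 2) := by
      rcases Nat.even_or_odd n with h | h
      · rw [if_pos h, Nat.even_iff.1 h]
        exact up t _
      · rw [if_neg (Nat.not_even_iff_odd.2 h), Nat.odd_iff.1 h]
        exact hp1 ht _
    calc _ ≤ t ^ (n * (n + 3) / 2 + n / 2) * t ^ (n + 2 + n % 2) := Nat.mul_le_mul ih h1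
      _ = _ := by
        rw [← pow_add]
        congr 1
        have h2 : (n + 1) * (n + 1 + 3) = n * (n + 3) + 2 * (n + 2) := by ring
        rw [h2]
        omega

end arith

theorem dd_pos {X : Sh} {p f M : ℕ} (h : Real X p f M) : 1 ≤ dd X (p ^ f) := Nat.pos_of_ne_zero h.dd_ne

theorem fin_of {a b A B x y : ℕ} (h : a * A = b * B) (ha : 1 ≤ a) (hA : x ≤ A) (hB : B ≤ y) (hxy : b * y < x) :
    False := by
  have h1 : A ≤ b * B := by rw [← h]; exact Nat.le_mul_of_pos_left _ ha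
  have h2 : b * B ≤ b * y := Nat.mul_le_mul_left _ hB
  omega

theorem pow_lt' {t a b c : ℕ} (ht : 2 ≤ t) (hc : c < 2 ^ (a - b)) (hab : b ≤ a) : c * t ^ b < t ^ a := by
  have h1 : t ^ a = t ^ (a - b) * t ^ b := by rw [← pow_add]; congr 1; omega
  rw [h1]
  have h2 : 2 ^ (a - b) ≤ t ^ (a - b) := Nat.pow_le_pow_left ht _
  exact Nat.mul_lt_mul_of_pos_right (by omega) (pow_pos (by omega) _)

end Cfsg.Agent.H66.Cod
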