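import Cfsg.Agent.H66.Cod.Base
import Cfsg.Agent.H615.SLSteinberg
import Cfsg.Agent.H996.BruChev
import Cfsg.Agent.H167.HasStLie
import Cfsg.Agent.S2318

/-!
# Codegrees of simple groups (helper66): the character of defect zero in the own characteristic

* `uniqDZ_psl`, `uniqDZ_chev` : `UniqDZ p L` for `L = PSL_n(q)` and the Chevalley groups `F4`, `E6`, `E7`, `E8`
* `ndeg_steinberg` : `|K|_p` is a degree of `K` if `K` is of Lie type in characteristic `p`
-/

set_option autoImplicit false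
set_option linter.unusedSectionVars false

universe u v

namespace Cfsg.Agent.H66.Cod

open Cfsg Cfsg.Agent.H902 Cfsg.Agent.Characters.Core Cfsg.Agent.H686.CharKit
open Cfsg.Agent.H495.Cod (charDegree_one sq_lt perfect_of_simple card_ker_simple)

theorem not_dvd_div {N d p : ℕ} (hp : p.Prime) (hN : N ≠ 0) (hd : d ∣ N) (h : Art.P p N ∣ d) : ¬ p ∣ N / d := by
  obtain ⟨c, rfl⟩ := hd
  have hd0 : d ≠ 0 := fun h0 => hN (by rw [h0, zero_mul])
  rw [Nat.mul_div_cancel_left _ (Nat.pos_of_ne_zero hd0)]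
  intro hc
  have h1 : p ^ ((d * c).factorization p + 1) ∣ d * c := by
    rw [pow_succ]
    exact mul_dvd_mul h hc
  exact Nat.pow_succ_factorization_not_dvd hN hp h1

theorem uniqDZ_of {p : ℕ} (hp : p.Prime) {L : Type u} [Group L] [Finite L]
    (hu : ∀ χ χ' : IrrCharacter L, ¬ p ∣ Nat.card L / charDegree (χ : L → ℂ) →
      ¬ p ∣ Nat.card L / charDegree (χ' : L → ℂ) → χ = χ')
    (hex : ∃ χ : IrrCharacter L, charDegree (χ : L → ℂ) = Art.P p (Nat.card L)) : UniqDZ p L := by
  obtain ⟨χ₀, h0⟩ := hex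
  rintro d ⟨χ, -, rfl⟩ hd
  have h1 : χ = χ₀ := by
    refine hu χ χ₀ (not_dvd_div hp Nat.card_pos.ne' (H674.Codegree.charDegree_dvd_card χ.2) hd)
      (not_dvd_div hp Nat.card_pos.ne' (H674.Codegree.charDegree_dvd_card χ₀.2) ?_)
    rw [h0]
  rw [h1, h0]

/-- the Steinberg character -/
theorem ndeg_steinberg {K : Type u} [Group K] [Finite K] [IsSimpleGroup K] {p : ℕ} (hp : p.Prime)
    (h : IsLieTypeChar p K) (hpK : p ∣ Nat.card K) : NDeg K (Art.P p (Nat.card K)) := by
  obtain ⟨χ, hχ, hχ1, -⟩ := H167.StChar.hasSt_of_lie hp h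
  have hdeg : charDegree χ = Art.P p (Nat.card K) := by
    rw [charDegree, hχ1, Complex.natCast_re, Nat.floor_natCast]
    rfl
  refine ⟨⟨χ, hχ⟩, ?_, hdeg⟩
  rintro (rfl : χ = 1)
  rw [charDegree_one, Art.P] at hdeg
  have h1 : 0 < (Nat.card K).factorization p := hp.factorization_pos_of_dvd Nat.card_pos.ne' hpK
  have h2 := Nat.one_lt_pow h1.ne' hp.one_lt
  omega

/-- at most one irreducible character of defect zero of `PSL_n(F)` -/
theorem psl_unique {F : Type u} [Field F] [Fintype F] (n : ℕ) (p : ℕ) [hp : Fact p.Prime] [CharP F p]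
    (χ χ' : IrrCharacter (Matrix.ProjectiveSpecialLinearGroup (Fin n) F))
    (hχ : ¬ p ∣ Nat.card (Matrix.ProjectiveSpecialLinearGroup (Fin n) F) /
      charDegree (χ : Matrix.ProjectiveSpecialLinearGroup (Fin n) F → ℂ))
    (hχ' : ¬ p ∣ Nat.card (Matrix.ProjectiveSpecialLinearGroup (Fin n) F) /
      charDegree (χ' : Matrix.ProjectiveSpecialLinearGroup (Fin n) F → ℂ)) : χ = χ' := by
  classical
  let G := Matrix.SpecialLinearGroup (Fin n) F
  let Z := Subgroup.center G
  let f : G →* G ⧸ Z := QuotientGroup.mk' Z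
  have hf : Function.Surjective f := QuotientGroup.mk'_surjective Z
  have hfin : Finite (G ⧸ Z) := Finite.of_surjective _ hf
  have key : ∀ ψ : IrrCharacter (G ⧸ Z), ¬ p ∣ Nat.card (G ⧸ Z) / charDegree (ψ : G ⧸ Z → ℂ) →
      ¬ p ∣ Nat.card G / charDegree ((ψ : G ⧸ Z → ℂ) ∘ f) := by
    intro ψ hψ
    have hdeg : charDegree ((ψ : G ⧸ Z → ℂ) ∘ f) = charDegree (ψ : G ⧸ Z → ℂ) := by
      rw [charDegree, charDegree]
      show Nat.floor ((ψ : G ⧸ Z → ℂ) (f 1)).re = _
      rw [map_one]
    have hZ : ¬ p ∣ Nat.card Z := by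
      intro h
      obtain ⟨z, hz⟩ := exists_prime_orderOf_dvd_card' p h
      have hzc := z.2
      obtain ⟨c, hc, hcz⟩ := Matrix.SpecialLinearGroup.mem_center_iff.1 z.2
      have h1 : (z : G) ^ p = 1 := by
        have := pow_orderOf_eq_one z
        rw [hz] at this
        exact congrArg Subtype.val this
      rcases Nat.eq_zero_or_pos n with h0 | h0
      · subst h0
        have : Subsingleton G := ⟨fun a b => by ext i; exact i.elim0⟩
        have h2 : z = 1 := Subtype.ext (Subsingleton.elim _ _)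
        rw [h2, orderOf_one] at hz
        exact hp.out.one_lt.ne hz
      · have hne : Nonempty (Fin n) := ⟨⟨0, h0⟩⟩
        have h2 : c ^ p = 1 := by
          have h3 := congrArg Subtype.val h1
          rw [Matrix.SpecialLinearGroup.coe_pow, ← hcz, ← map_pow, Matrix.SpecialLinearGroup.coe_one,
            ← map_one (Matrix.scalar (Fin n))] at h3
          exact Matrix.scalar_inj.1 h3
        have h3 : c = 1 := by
          have h4 : (c - 1) ^ p = 0 := by rw [sub_pow_char, h2, one_pow, sub_self]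
          exact sub_eq_zero.1 (pow_eq_zero_iff hp.out.ne_zero |>.1 h4)
        have h4 : z = 1 := by
          apply Subtype.ext
          apply Subtype.ext
          rw [← hcz, h3, map_one]
          rfl
        rw [h4, orderOf_one] at hz
        exact hp.out.one_lt.ne hz
    rw [hdeg, Subgroup.card_eq_card_quotient_mul_card_subgroup Z]
    have hd : charDegree (ψ : G ⧸ Z → ℂ) ∣ Nat.card (G ⧸ Z) := H674.Codegree.charDegree_dvd_card ψ.2
    rw [mul_comm, Nat.mul_div_assoc _ hd]
    intro h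
    rcases (hp.out.dvd_mul).1 h with h | h
    · exact hZ h
    · exact hψ h
  obtain ⟨M, hM⟩ := Blocks.ExistsModular.exists_isPModular hp.out
  have h1 := H615.SLSteinberg.defect_zero_unique p M hM ⟨_, isIrr_comp f hf χ.2⟩ ⟨_, isIrr_comp f hf χ'.2⟩
    (key χ hχ) (key χ' hχ')
  apply Subtype.ext
  funext x
  obtain ⟨g, rfl⟩ := hf x
  exact congrFun (congrArg Subtype.val h1) g

theorem uniqDZ_psl {F : Type u} [Field F] [Fintype F] {n : ℕ} (hn : 2 ≤ n) (p : ℕ) [hp : Fact p.Prime] [CharP F p] :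
    UniqDZ p (Matrix.ProjectiveSpecialLinearGroup (Fin n) F) := by
  have : Finite (Matrix.ProjectiveSpecialLinearGroup (Fin n) F) :=
    Finite.of_surjective _ (QuotientGroup.mk'_surjective _)
  refine uniqDZ_of hp.out (psl_unique n p) ?_
  obtain ⟨χ, hχ, hχP⟩ := Cfsg.Agent.S2544.result (F := F) p n hn
  obtain ⟨P⟩ : Nonempty (Sylow p (Matrix.ProjectiveSpecialLinearGroup (Fin n) F)) := inferInstance
  refine ⟨⟨χ, hχ⟩, ?_⟩
  have h1 : charDegree χ = Art.P p (Nat.card (Matrix.ProjectiveSpecialLinearGroup (Fin n) F)) := by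
    rw [charDegree, (hχP P).1, Complex.natCast_re, Nat.floor_natCast]
    exact P.card_eq_multiplicity
  exact h1

theorem uniqDZ_chev {D : Lie.ChevalleyDatum}
    (hD : D ∈ [Lie.chevG2, Lie.chevB2, Lie.chevD4, Lie.chevF4, Lie.chevE6, Lie.chevE7, Lie.chevE8])
    {F : Type u} [Field F] [Fintype F] (p : ℕ) [hp : Fact p.Prime] [CharP F p] : UniqDZ p ↥(D.group F) := by
  refine uniqDZ_of hp.out (H996.BruChev.unique hD (F := F) p) ?_
  have hirr := S2311.result (F := F) D hD
  have hst := S2327.result (F := F) D hD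
  refine ⟨⟨D.steinbergCharacter F, hirr⟩, ?_⟩
  obtain ⟨P, hP⟩ := S2326.result (F := F) p D hD
  have hcard : Art.P p (Nat.card ↥(D.group F)) = Fintype.card F ^ (D.nroots / 2) := by
    rw [Art.P, ← P.card_eq_multiplicity, ← S1027.result (F := F) D hD]
    have h1 : Nat.card P = Nat.card (P : Subgroup ↥(D.group F)) := rfl
    rw [h1, hP]
    exact Nat.card_congr (Subgroup.subgroupOfEquivOfLe
      (ChevalleyStructure.Elts.posUnipotent_le_group hD F)).toEquiv
  have h2 : D.steinbergCharacter F 1 = ((Fintype.card F ^ (D.nroots / 2) : ℕ) : ℂ) := by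
    rw [hst]
    push_cast
    rfl
  rw [hcard, charDegree]
  change Nat.floor (D.steinbergCharacter F 1).re = _
  rw [h2, Complex.natCast_re, Nat.floor_natCast]

end Cfsg.Agent.H66.Cod
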